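import Groth.Agent.Ega2.LimPic
import Groth.Agent.Grpsch.PicGrp
import Mathlib.FieldTheory.IntermediateField.Adjoin.Basic

/-!
# Invertible modules descend to finitely generated field extensions

`f : X ⟶ Spec F` quasi-compact and quasi-separated, `k/F` an extension of fields: every invertible module on `X_k`
is the pullback of an invertible module on `X_{K₁}` for all sufficiently large intermediate fields `K₁` (all those
which contain a certain finitely generated one).
-/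

set_option autoImplicit false
universe u

open CategoryTheory CategoryTheory.Limits AlgebraicGeometry Opposite

namespace Groth.Agent.Lefpen.H629.FgDescent

open Groth.Agent.Ega2.LimPic

variable {F k : Type u} [Field F] [Field k] [Algebra F k] {X : Scheme.{u}}
  (f : X ⟶ Spec (CommRingCat.of F))

/-- A square over `Spec B ⟶ Spec F` as the standard base change. -/
lemma isPullback_spO {B : Type u} [CommRing B] [Algebra F B] :
    IsPullback (pullback.fst f (spO (𝟙 (Spec (CommRingCat.of F))) B).hom)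
      (PicF.XTproj f (spO (𝟙 _) B)) f (Spec.map (CommRingCat.ofHom (algebraMap F B))) := by
  have h := IsPullback.of_hasPullback f (spO (𝟙 (Spec (CommRingCat.of F))) B).hom
  have h1 : (spO (𝟙 (Spec (CommRingCat.of F))) B).hom = Spec.map (CommRingCat.ofHom (algebraMap F B)) :=
    Category.comp_id _
  refine IsPullback.of_iso h (Iso.refl _) (Iso.refl _) (Iso.refl _) (Iso.refl _) ?_ ?_ ?_ ?_
  · simp
  · exact (Category.comp_id _).trans (Category.id_comp _).symm
  · simp
  · simp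

/-- The canonical homomorphism from an intermediate field as a subalgebra. -/
def toIF (K₁ : IntermediateField F k) : K₁.toSubalgebra →ₐ[F] K₁ :=
  AlgHom.id F K₁

variable [QuasiCompact f] [QuasiSeparated f]

/-- **Invertible modules on `X_k` descend to all large intermediate fields.** -/
theorem exists_fg {Y : Scheme.{u}} {g : Y ⟶ X} {q : Y ⟶ Spec (CommRingCat.of k)}
    (hY : IsPullback g q f (Spec.map (CommRingCat.ofHom (algebraMap F k)))) (L : Y.Modules)
    (hL : PicF.IsInvertible L) :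
    ∃ K₀ : IntermediateField F k, K₀.FG ∧ ∀ K₁ : IntermediateField F k, K₀ ≤ K₁ →
      ∀ {X₁ : Scheme.{u}} {g₁ : X₁ ⟶ X} {q₁ : X₁ ⟶ Spec (CommRingCat.of K₁)}
        (_ : IsPullback g₁ q₁ f (Spec.map (CommRingCat.ofHom (algebraMap F K₁)))) (ρ : Y ⟶ X₁)
        (_ : ρ ≫ g₁ = g) (_ : ρ ≫ q₁ = q ≫ Spec.map (CommRingCat.ofHom (algebraMap K₁ k))),
      ∃ L₁ : X₁.Modules, PicF.IsInvertible L₁ ∧
        Nonempty ((Scheme.Modules.pullback ρ).obj L₁ ≅ L) := by
  let t := 𝟙 (Spec (CommRingCat.of F))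
  let e : PicF.XT f (spO t k) ≅ Y := (isPullback_spO f (B := k)).isoIsPullback _ _ hY
  have he1 : e.hom ≫ g = pullback.fst f (spO t k).hom :=
    (isPullback_spO f (B := k)).isoIsPullback_hom_fst _ _ hY
  have he2 : e.hom ≫ q = PicF.XTproj f (spO t k) :=
    (isPullback_spO f (B := k)).isoIsPullback_hom_snd _ _ hY
  obtain ⟨C₀, hC₀, hC⟩ := exists_cl_FG t f (B := k) (PicF.cl ((Scheme.Modules.pullback e.hom).obj L))
    ⟨_, rfl, Groth.Agent.Fdesc.LocGen.isInvertible_pullback _ hL⟩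
  obtain ⟨s, hs⟩ := hC₀
  refine ⟨IntermediateField.adjoin F (s : Set k), ⟨s, rfl⟩, fun K₁ hK₁ X₁ g₁ q₁ h₁ ρ hρ1 hρ2 => ?_⟩
  obtain ⟨ξ₀, ⟨L₀, rfl, hL₀⟩, hξ⟩ := hC K₁.toSubalgebra (by
    rw [← hs, Algebra.adjoin_le_iff]
    intro x hx
    exact hK₁ (IntermediateField.subset_adjoin F _ hx))
  have h2 : IsPullback (pullback.fst f (spO t K₁.toSubalgebra).hom)
      (PicF.XTproj f (spO t K₁.toSubalgebra)) f
      (Spec.map (CommRingCat.ofHom (algebraMap F K₁.toSubalgebra))) :=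
    isPullback_spO f (B := K₁.toSubalgebra)
  have h1' : IsPullback g₁ q₁ f (Spec.map (CommRingCat.ofHom (algebraMap F K₁.toSubalgebra))) := h₁
  let w : X₁ ≅ PicF.XT f (spO t K₁.toSubalgebra) := h1'.isoIsPullback _ _ h2
  have hw1 : w.hom ≫ pullback.fst f (spO t K₁.toSubalgebra).hom = g₁ :=
    h1'.isoIsPullback_hom_fst _ _ h2
  have hw2 : w.hom ≫ PicF.XTproj f (spO t K₁.toSubalgebra) = q₁ :=
    h1'.isoIsPullback_hom_snd _ _ h2
  have key : ρ ≫ w.hom = e.inv ≫ PicF.XTmap f (spVal t K₁.toSubalgebra) := by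
    apply h2.hom_ext
    · rw [Category.assoc, hw1, hρ1, Category.assoc, PicF.XTmap]
      simp only [pullback.map, pullback.lift_fst, Category.comp_id]
      rw [← he1, Iso.inv_hom_id_assoc]
    · rw [Category.assoc, hw2, hρ2, Category.assoc]
      have := Groth.Agent.Picfga.HilbPull.XTmap_snd f (spVal t K₁.toSubalgebra)
      rw [this, ← he2, Category.assoc, Iso.inv_hom_id_assoc]
      rfl
  obtain ⟨i⟩ := Groth.Agent.Picfga.LineDescent.cl_eq_iff.1 hξ
  refine ⟨(Scheme.Modules.pullback w.hom).obj L₀,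
    Groth.Agent.Fdesc.LocGen.isInvertible_pullback _ hL₀, ⟨?_⟩⟩
  refine (Scheme.Modules.pullbackComp ρ w.hom).app L₀ ≪≫
    (Scheme.Modules.pullbackCongr key).app L₀ ≪≫
    ((Scheme.Modules.pullbackComp e.inv (PicF.XTmap f (spVal t K₁.toSubalgebra))).app L₀).symm ≪≫
    (Scheme.Modules.pullback e.inv).mapIso i ≪≫
    (Scheme.Modules.pullbackComp e.inv e.hom).app L ≪≫
    (Scheme.Modules.pullbackCongr e.inv_hom_id).app L ≪≫ (Scheme.Modules.pullbackId Y).app L

open Groth.Agent.Grpsch.PicGrp in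
/-- The same in terms of Picard groups. -/
theorem exists_pull_fg {Y : Scheme.{u}} {g : Y ⟶ X} {q : Y ⟶ Spec (CommRingCat.of k)}
    (hY : IsPullback g q f (Spec.map (CommRingCat.ofHom (algebraMap F k)))) (c : Pic Y) :
    ∃ K₀ : IntermediateField F k, K₀.FG ∧ ∀ K₁ : IntermediateField F k, K₀ ≤ K₁ →
      ∀ {X₁ : Scheme.{u}} {g₁ : X₁ ⟶ X} {q₁ : X₁ ⟶ Spec (CommRingCat.of K₁)}
        (_ : IsPullback g₁ q₁ f (Spec.map (CommRingCat.ofHom (algebraMap F K₁)))) (ρ : Y ⟶ X₁)
        (_ : ρ ≫ g₁ = g) (_ : ρ ≫ q₁ = q ≫ Spec.map (CommRingCat.ofHom (algebraMap K₁ k))),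
      ∃ c₁ : Pic X₁, pull ρ c₁ = c := by
  obtain ⟨L, hL, rfl⟩ := exists_mk c
  obtain ⟨K₀, hK₀, h⟩ := exists_fg f hY L hL
  refine ⟨K₀, hK₀, fun K₁ hK₁ X₁ g₁ q₁ h₁ ρ hρ1 hρ2 => ?_⟩
  obtain ⟨L₁, hL₁, ⟨i⟩⟩ := h K₁ hK₁ h₁ ρ hρ1 hρ2
  exact ⟨mk L₁ hL₁, mk_congr i⟩

/-- The canonical map `X_k ⟶ X_{K₁}`. -/
noncomputable def baseMap (K₁ : IntermediateField F k) :
    pullback f (Spec.map (CommRingCat.ofHom (algebraMap F k))) ⟶
      pullback f (Spec.map (CommRingCat.ofHom (algebraMap F K₁))) :=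
  pullback.map _ _ _ _ (𝟙 X) (Spec.map (CommRingCat.ofHom (algebraMap K₁ k))) (𝟙 _) (by simp) (by
    rw [Category.comp_id, ← Spec.map_comp, ← CommRingCat.ofHom_comp]
    rfl)

/-- The form with the standard base changes. -/
theorem exists_fg_descent (L : (pullback f (Spec.map (CommRingCat.ofHom (algebraMap F k)))).Modules)
    (hL : PicF.IsInvertible L) :
    ∃ (K₁ : IntermediateField F k) (_ : K₁.FG)
      (L₁ : (pullback f (Spec.map (CommRingCat.ofHom (algebraMap F K₁)))).Modules),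
      PicF.IsInvertible L₁ ∧ Nonempty ((Scheme.Modules.pullback (baseMap f K₁)).obj L₁ ≅ L) := by
  obtain ⟨K₀, hK₀, h⟩ := exists_fg f (IsPullback.of_hasPullback f _) L hL
  exact ⟨K₀, hK₀, h K₀ le_rfl (IsPullback.of_hasPullback f _) (baseMap f K₀)
    (by rw [baseMap, pullback.map, pullback.lift_fst, Category.comp_id])
    (by rw [baseMap, pullback.map, pullback.lift_snd])⟩

end Groth.Agent.Lefpen.H629.FgDescent
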